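import Cfsg.Agent.H624.Sl.Defs

/-!
# S4536, LA6: extremal pairs (helper1)

`exists_extremal`: the invariants `kd x g` are compared lexicographically along an enumeration of the polynomials starting
with `(X - 1) ^ k`.
-/

set_option autoImplicit false
set_option linter.unusedSectionVars false

open Cfsg Polynomial
open scoped MatrixGroups

namespace Cfsg.Agent.H1.Sl

open Cfsg.Agent.H624.Sl

universe u

/-- LA1: the dimensions of the kernels of `g(x)` determine the class. -/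
def LA1 : Prop := ∀ {F : Type u} [Field F] [Finite F] {n : ℕ} (x y : GL (Fin n) F),
  (∀ g : F[X], kd x g = kd y g) → IsConj x y

section one

variable {F : Type u} [Field F] {n : ℕ}

theorem kd_le (x : GL (Fin n) F) (g : F[X]) : kd x g ≤ n := by
  have h := Submodule.finrank_le (LinearMap.ker (aeval (Matrix.toLin' x.1) g))
  rwa [Module.finrank_fin_fun] at h

theorem kd_eq_iff (x : GL (Fin n) F) (g : F[X]) : kd x g = n ↔ aeval (Matrix.toLin' x.1) g = 0 := by
  rw [← LinearMap.ker_eq_top]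
  constructor
  · intro h
    apply Submodule.eq_top_of_finrank_eq
    rw [Module.finrank_fin_fun]
    exact h
  · intro h
    rw [kd, h, finrank_top, Module.finrank_fin_fun]

theorem aeval_pow_sub (x : GL (Fin n) F) (r : ℕ) :
    aeval (Matrix.toLin' x.1) ((X - 1 : F[X]) ^ r) = Matrix.toLin' ((x.1 - 1) ^ r) := by
  rw [map_pow, map_sub, aeval_X, map_one, Matrix.toLin'_pow, map_sub, Matrix.toLin'_one]
  rfl

theorem uni_iff (x : GL (Fin n) F) : Uni x ↔ kd x ((X - 1) ^ n) = n := by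
  rw [kd_eq_iff, aeval_pow_sub, Uni]
  exact (map_eq_zero_iff _ (Matrix.toLin' (R := F) (m := Fin n) (n := Fin n)).injective).symm

theorem kd_zero (x : GL (Fin n) F) : kd x 0 = n := by
  rw [kd_eq_iff, map_zero]

/-- on a unipotent element only the multiplicity of the root `1` matters -/
theorem kd_uni (x : GL (Fin n) F) (hx : Uni x) (h : F[X]) (h0 : h ≠ 0) :
    kd x h = kd x ((X - 1) ^ h.rootMultiplicity 1) := by
  obtain ⟨h', hh, hnd⟩ := exists_eq_pow_rootMultiplicity_mul_and_not_dvd h h0 1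
  have hC : (X - C 1 : F[X]) = X - 1 := by rw [map_one]
  have hcop : IsCoprime ((X - 1 : F[X]) ^ n) h' := by
    rw [← hC]
    exact IsCoprime.pow_left ((irreducible_X_sub_C (1 : F)).coprime_iff_not_dvd.2 hnd)
  rw [hC] at hh
  obtain ⟨a, b, hab⟩ := hcop
  have h1 : aeval (Matrix.toLin' x.1) ((X - 1 : F[X]) ^ n) = 0 := by
    rw [← kd_eq_iff]; exact (uni_iff x).1 hx
  have h2 : ∀ v, aeval (Matrix.toLin' x.1) h' v = 0 → v = 0 := fun v hv => by
    have h3 := congrArg (fun g => aeval (Matrix.toLin' x.1) g v) hab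
    simp only [map_add, map_mul, h1, mul_zero, zero_add, map_one] at h3
    change aeval (Matrix.toLin' x.1) b (aeval (Matrix.toLin' x.1) h' v) = v at h3
    rw [hv, map_zero] at h3
    exact h3.symm
  have h4 : LinearMap.ker (aeval (Matrix.toLin' x.1) h) =
      LinearMap.ker (aeval (Matrix.toLin' x.1) ((X - 1 : F[X]) ^ h.rootMultiplicity 1)) := by
    ext v
    rw [LinearMap.mem_ker, LinearMap.mem_ker]
    have h5 : aeval (Matrix.toLin' x.1) h v =
        aeval (Matrix.toLin' x.1) h' (aeval (Matrix.toLin' x.1) ((X - 1 : F[X]) ^ h.rootMultiplicity 1) v) := by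
      conv_lhs => rw [hh]
      rw [mul_comm, map_mul]
      rfl
    rw [h5]
    exact ⟨fun h => h2 _ h, fun h => by rw [h, map_zero]⟩
  rw [kd, kd, h4]

end one

section two

variable {F : Type u} [Field F] [Finite F] {K : Type u} [Field K] [Finite K] [Algebra F K] {k m : ℕ}

/-- an enumeration of the polynomials starting with a given one -/
theorem exists_enum (g0 : F[X]) : ∃ e : ℕ → F[X], e 0 = g0 ∧ Function.Surjective e := by
  have hc : Countable F[X] := by
    rw [← Cardinal.mk_le_aleph0_iff]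
    exact Polynomial.cardinalMk_le_max.trans (max_le (Cardinal.mk_le_aleph0_iff.2 inferInstance) le_rfl)
  obtain ⟨f, hf⟩ := exists_surjective_nat F[X]
  refine ⟨fun i => Nat.casesOn i g0 f, rfl, fun g => ?_⟩
  obtain ⟨i, hi⟩ := hf g
  exact ⟨i + 1, hi⟩

theorem first_le {f g : Lex (ℕ → ℕ)} (h : f ≤ g) : f 0 ≤ g 0 := by
  rcases h.eq_or_lt with h | h
  · rw [h]
  · obtain ⟨i, hi, hlt⟩ := h
    rcases Nat.eq_zero_or_pos i with h0 | h0
    · subst h0; exact le_of_lt hlt
    · exact le_of_eq (hi 0 h0)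

/-- LA6: extremal pairs. -/
theorem exists_extremal_of (hLA1 : LA1.{u}) (X₁ : Set (GL (Fin k) K)) (X₂ : Set (GL (Fin m) F))
    (h₁ : ∃ x ∈ X₁, Uni x) (h₂ : X₂.Nonempty) :
    ∃ x₁ ∈ X₁, ∃ x₂ ∈ X₂, Uni x₁ ∧ ∀ y₁ ∈ X₁, ∀ y₂ ∈ X₂,
      (∀ g : F[X], Module.finrank F K * kd y₁ (g.map (algebraMap F K)) + kd y₂ g =
        Module.finrank F K * kd x₁ (g.map (algebraMap F K)) + kd x₂ g) →
      IsConj y₁ x₁ ∧ IsConj y₂ x₂ := by
  classical
  have hmod : Module.Finite F K := Module.Finite.of_finite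
  have hd : 0 < Module.finrank F K := Module.finrank_pos
  obtain ⟨e, he0, hes⟩ := exists_enum ((X - 1 : F[X]) ^ k)
  let a : GL (Fin k) K → Lex (ℕ → ℕ) := fun y => toLex fun i =>
    Module.finrank F K * kd y ((e i).map (algebraMap F K))
  let b : GL (Fin m) F → Lex (ℕ → ℕ) := fun y => toLex fun i => kd y (e i)
  obtain ⟨u, hu, huu⟩ := h₁
  obtain ⟨x₁, hx₁, hmax₁⟩ := (Set.toFinite X₁).exists_maximalFor a X₁ ⟨u, hu⟩
  obtain ⟨x₂, hx₂, hmax₂⟩ := (Set.toFinite X₂).exists_maximalFor b X₂ h₂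
  have ha : ∀ y ∈ X₁, a y ≤ a x₁ := fun y hy => (le_total (a y) (a x₁)).elim id fun h => hmax₁ hy h
  have hb : ∀ y ∈ X₂, b y ≤ b x₂ := fun y hy => (le_total (b y) (b x₂)).elim id fun h => hmax₂ hy h
  have hmap : ((X - 1 : F[X]) ^ k).map (algebraMap F K) = (X - 1) ^ k := by
    rw [Polynomial.map_pow, Polynomial.map_sub, Polynomial.map_X, Polynomial.map_one]
  have hU : ∀ y : GL (Fin k) K, kd y (((X - 1 : F[X]) ^ k).map (algebraMap F K)) = k ↔ Uni y := fun y => by
    rw [hmap, uni_iff]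
  have hx₁u : Uni x₁ := by
    rw [← hU]
    have h0 := first_le (ha u hu)
    change Module.finrank F K * kd u ((e 0).map (algebraMap F K)) ≤
      Module.finrank F K * kd x₁ ((e 0).map (algebraMap F K)) at h0
    rw [he0, (hU u).2 huu] at h0
    exact le_antisymm (kd_le _ _) (le_of_mul_le_mul_left h0 hd)
  refine ⟨x₁, hx₁, x₂, hx₂, hx₁u, fun y₁ hy₁ y₂ hy₂ h => ?_⟩
  have hsum : a y₁ + b y₂ = a x₁ + b x₂ := by
    funext i
    exact h (e i)
  obtain ⟨ea, eb⟩ := (add_eq_add_iff_eq_and_eq (ha y₁ hy₁) (hb y₂ hy₂)).1 hsum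
  have ea' : ∀ g : F[X], kd y₁ (g.map (algebraMap F K)) = kd x₁ (g.map (algebraMap F K)) := fun g => by
    obtain ⟨i, rfl⟩ := hes g
    exact Nat.eq_of_mul_eq_mul_left hd (congrFun ea i)
  have eb' : ∀ g : F[X], kd y₂ g = kd x₂ g := fun g => by
    obtain ⟨i, rfl⟩ := hes g
    exact congrFun eb i
  have hy₁u : Uni y₁ := by
    rw [← hU, ea', hU]; exact hx₁u
  refine ⟨hLA1 y₁ x₁ fun g => ?_, hLA1 y₂ x₂ eb'⟩
  by_cases hg : g = 0
  · rw [hg, kd_zero, kd_zero]
  · rw [kd_uni y₁ hy₁u g hg, kd_uni x₁ hx₁u g hg]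
    have h3 := ea' ((X - 1 : F[X]) ^ g.rootMultiplicity 1)
    rwa [Polynomial.map_pow, Polynomial.map_sub, Polynomial.map_X, Polynomial.map_one] at h3

end two

end Cfsg.Agent.H1.Sl
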